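import Cfsg.Agent.H826.Bs.CountO

/-!
# S4324, orthogonal groups of dimension at least four (helper621)

* `univ` : nondegenerate quadratic spaces of dimension at least two represent all values;
* `trans_E` : `E Q` is transitive on the vectors of a given nonzero norm, `dim V ≥ 4`;
* `sq_mem` , `mem_E_of_odd` : squares of isometries, isometries of odd order lie in `E Q`.
-/

set_option autoImplicit false
set_option linter.unusedSectionVars false

namespace Cfsg.Agent.H621.Pi

open Module QuadraticMap Subgroup Cfsg.Agent.LieClassical.OrthCore Cfsg.Agent.LieClassical.OrthTrans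
open Cfsg.Agent.H847.Bs Cfsg.Agent.H826.Bs

variable {F V : Type*} [Field F] [AddCommGroup V] [Module F V] {Q : QuadraticForm F V}

/-- universality -/
theorem univ [Finite F] {D : Submodule F V} (hD : (frmQ Q).NdOn D) (h2 : 2 ≤ finrank F D) (c : F) :
    ∃ p ∈ D, Q p = c := by
  have : Module.Finite F D := Module.finite_of_finrank_pos (by omega)
  let bs := Module.finBasis F D
  let v : Fin 2 → D := fun i => bs (Fin.castLE h2 i)
  have hv : LinearIndependent F v := bs.linearIndependent.comp _ (Fin.castLE_injective h2)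
  obtain ⟨x, hx0, hx⟩ := Cfsg.Agent.LieClassical.OrthFinite.exists_ternary_zero (Q (v 0 : V)) (Q (v 1 : V)) (-c)
    (polar Q (v 0 : V) (v 1 : V)) 0 0
  set p : D := x 0 • v 0 + x 1 • v 1 with hp
  have hQp : Q (p : V) = x 2 ^ 2 * c := by
    have e : (p : V) = x 0 • (v 0 : V) + x 1 • (v 1 : V) := rfl
    rw [e, Q_add, QuadraticMap.map_smul, QuadraticMap.map_smul, polar_smul_left, polar_smul_right]
    simp only [smul_eq_mul]
    linear_combination hx
  by_cases hz : x 2 = 0
  · -- a singular vector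
    have hp0 : p ≠ 0 := by
      intro h
      apply hx0
      have h1 := Fintype.linearIndependent_iff.1 hv ![x 0, x 1] (by rw [Fin.sum_univ_two]; exact h)
      funext i
      fin_cases i
      · exact h1 0
      · exact h1 1
      · exact hz
    rw [hz] at hQp
    have hQp' : Q (p : V) = 0 := by rw [hQp]; ring
    obtain ⟨w, hw, hpw⟩ : ∃ w ∈ D, polar Q (p : V) w ≠ 0 := by
      by_contra hcon
      push Not at hcon
      exact hp0 (Subtype.ext (hD p p.2 hcon))
    -- `w + t p` has norm `Q w + t B`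
    refine ⟨w + ((c - Q w) * (polar Q (p : V) w)⁻¹) • (p : V), D.add_mem hw (D.smul_mem _ p.2), ?_⟩
    rw [Q_add, QuadraticMap.map_smul, hQp', polar_smul_right, polar_comm Q w p]
    simp only [smul_eq_mul, mul_zero, add_zero]
    rw [mul_assoc, inv_mul_cancel₀ hpw]
    ring
  · refine ⟨(x 2)⁻¹ • (p : V), D.smul_mem _ p.2, ?_⟩
    rw [QuadraticMap.map_smul, hQp, smul_eq_mul]
    field_simp

/-- the basic move -/
theorem move {u a b : V} (hu : Q u = 0) (hab : Q a = Q b) (h : polar Q u a = polar Q u b) (h0 : polar Q u a ≠ 0) :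
    ∃ k ∈ E Q, k a = b := by
  set l := polar Q u a with hl
  -- replace `u` by `l⁻¹ u`
  have hu' : Q (l⁻¹ • u) = 0 := by rw [QuadraticMap.map_smul, hu, smul_zero]
  have hw : polar Q (l⁻¹ • u) (b - a) = 0 := by
    rw [polar_smul_left, polar_sub_right, ← h, ← hl, sub_self, smul_zero]
  refine ⟨siegel Q (l⁻¹ • u) (b - a) hu' hw, siegel_mem_E hu' hw, ?_⟩
  have h1 : polar Q (l⁻¹ • u) a = 1 := by rw [polar_smul_left, smul_eq_mul, ← hl, inv_mul_cancel₀ h0]
  have h2 : polar Q (b - a) a + Q (b - a) = 0 := by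
    have h3 := QuadraticMap.map_add Q (b - a) a
    rw [sub_add_cancel, hab] at h3
    linear_combination -h3
  rw [siegel_apply, h1]
  have h4 : a + (1 : F) • (b - a) - polar Q (b - a) a • l⁻¹ • u - (Q (b - a) * 1) • l⁻¹ • u =
      b - (polar Q (b - a) a + Q (b - a)) • l⁻¹ • u := by module
  rw [h4, h2, zero_smul, sub_zero]

/-- the orthogonal complement of a hyperbolic pair -/
theorem hyp_compl [FiniteDimensional F V] {x y : V} (h : Hyp Q x y) :
    (frmQ Q).NdOn (Submodule.span F {x, y}) ∧ finrank F (Submodule.span F ({x, y} : Set V)) = 2 := by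
  apply plane_nd
  rw [h.left, h.pair]
  simp

theorem exists_compl [FiniteDimensional F V] (hQ : Nondeg Q) (h4 : 4 ≤ finrank F V) {x y : V} (h : Hyp Q x y) :
    ∃ P : Submodule F V, (frmQ Q).NdOn P ∧ 2 ≤ finrank F P ∧ ∀ p ∈ P, polar Q x p = 0 ∧ polar Q y p = 0 := by
  obtain ⟨h1, h2⟩ := hyp_compl h
  have hd := dec_prp h1
  refine ⟨prp (frmQ Q) (Submodule.span F {x, y}), Dec.ndOn_right hd hQ, ?_, fun p hp => ⟨?_, ?_⟩⟩
  · have := Dec.finrank_add hd
    omega
  · exact mem_prp'.1 hp x (Submodule.subset_span (by simp))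
  · exact mem_prp'.1 hp y (Submodule.subset_span (by simp))

/-- all vectors of norm `c` not orthogonal to `x` are in one orbit -/
theorem move_hyp [Finite F] [FiniteDimensional F V] (hQ : Nondeg Q) (h4 : 4 ≤ finrank F V) {x a b : V} (hx : Q x = 0)
    (hx0 : x ≠ 0) (hab : Q a = Q b) (hc : Q a ≠ 0) (ha : polar Q x a ≠ 0) (hb : polar Q x b ≠ 0) :
    ∃ k ∈ E Q, k a = b := by
  obtain ⟨y, h⟩ := exists_hyp hQ hx hx0
  obtain ⟨P, hP, hP2, hPo⟩ := exists_compl hQ h4 h
  set c := Q a with hc'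
  set β := polar Q x a with hβ
  set β' := polar Q x b with hβ'
  obtain ⟨p, hp, hQp⟩ := univ hP hP2 (c * (1 - β * β'⁻¹))
  obtain ⟨hp1, hp2⟩ := hPo p hp
  -- `e` and `d'`
  set e : V := ((c - Q p) * β⁻¹) • x + β • y + p with he
  set d : V := (c * β'⁻¹) • x + β' • y with hd
  have hQe : Q e = c := by
    rw [he, Q_add, Q_add, QuadraticMap.map_smul, QuadraticMap.map_smul, h.left, h.right, polar_smul_left,
      polar_smul_right, h.pair, polar_add_left, polar_smul_left, polar_smul_left, hp1, hp2]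
    simp only [smul_eq_mul]
    field_simp
    ring
  have hQd : Q d = c := by
    rw [hd, Q_add, QuadraticMap.map_smul, QuadraticMap.map_smul, h.left, h.right, polar_smul_left,
      polar_smul_right, h.pair]
    simp only [smul_eq_mul]
    field_simp
    ring
  have hxe : polar Q x e = β := by
    rw [he, polar_add_right, polar_add_right, polar_smul_right, polar_smul_right, h.polar_left, h.pair, hp1]
    simp
  have hxd : polar Q x d = β' := by
    rw [hd, polar_add_right, polar_smul_right, polar_smul_right, h.polar_left, h.pair]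
    simp
  have hye : polar Q y e = c * β'⁻¹ := by
    rw [he, polar_add_right, polar_add_right, polar_smul_right, polar_smul_right, h.polar_right, h.pair', hp2, hQp]
    simp only [smul_eq_mul]
    field_simp
    ring
  have hyd : polar Q y d = c * β'⁻¹ := by
    rw [hd, polar_add_right, polar_smul_right, polar_smul_right, h.polar_right, h.pair']
    simp
  obtain ⟨k1, hk1, e1⟩ := move hx (a := a) (b := e) (by rw [hQe]) (by rw [hxe]) ha
  obtain ⟨k2, hk2, e2⟩ := move h.right (a := e) (b := d) (by rw [hQe, hQd]) (by rw [hye, hyd])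
    (by rw [hye]; exact mul_ne_zero hc (inv_ne_zero hb))
  obtain ⟨k3, hk3, e3⟩ := move hx (a := d) (b := b) (by rw [hQd, hab]) (by rw [hxd]) (by rw [hxd]; exact hb)
  refine ⟨k3 * (k2 * k1), mul_mem hk3 (mul_mem hk2 hk1), ?_⟩
  show k3 (k2 (k1 a)) = b
  rw [e1, e2, e3]

/-- a common opposite of two orthogonal singular vectors -/
theorem exists_opp (hQ : Nondeg Q) {u w : V} (hu : Q u = 0) (hu0 : u ≠ 0) (hw : Q w = 0) (hw0 : w ≠ 0)
    (huw : polar Q u w = 0) : ∃ z, Q z = 0 ∧ polar Q z u ≠ 0 ∧ polar Q z w ≠ 0 := by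
  obtain ⟨z1, h1⟩ := exists_hyp hQ hu hu0
  by_cases c1 : polar Q z1 w = 0
  swap
  · exact ⟨z1, h1.right, by rw [h1.pair']; exact one_ne_zero, c1⟩
  obtain ⟨z2, h2⟩ := exists_hyp hQ hw hw0
  by_cases c2 : polar Q z2 u = 0
  swap
  · exact ⟨z2, h2.right, c2, by rw [h2.pair']; exact one_ne_zero⟩
  have huz2 : polar Q u z2 = 0 := by rw [polar_comm]; exact c2
  refine ⟨z1 + (z2 + (-polar Q z1 z2) • u), ?_, ?_, ?_⟩
  · rw [Q_add, Q_add, QuadraticMap.map_smul, h1.right, h2.right, hu, polar_add_right, polar_smul_right,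
      polar_smul_right, h1.pair', c2]
    simp
  · rw [polar_add_left, polar_add_left, polar_smul_left, h1.pair', c2, h1.polar_left]
    simp
  · rw [polar_add_left, polar_add_left, polar_smul_left, c1, h2.pair', huw]
    simp

/-- **`E Q` is transitive on the vectors of a given nonzero norm.** -/
theorem trans_E [Finite F] [FiniteDimensional F V] (hQ : Nondeg Q) (h4 : 4 ≤ finrank F V) {a b : V}
    (hab : Q a = Q b) (hc : Q a ≠ 0) : ∃ k ∈ E Q, k a = b := by
  have ha0 : a ≠ 0 := by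
    rintro rfl
    exact hc (QuadraticMap.map_zero Q)
  have hb0 : b ≠ 0 := by
    rintro rfl
    exact hc (hab.trans (QuadraticMap.map_zero Q))
  obtain ⟨x0, -, hx00, hx0⟩ := Cfsg.Agent.LieClassical.OrthFinite.exists_sing_mem (Q := Q) (⊤ : Submodule F V)
    (by rw [finrank_top]; omega)
  obtain ⟨y0, hxy⟩ := exists_hyp hQ hx0 hx00
  obtain ⟨u, hu, hua⟩ := exists_sing_polar_one hQ hxy ha0
  obtain ⟨w, hw, hwb⟩ := exists_sing_polar_one hQ hxy hb0
  have hua' : polar Q u a ≠ 0 := by rw [hua]; exact one_ne_zero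
  have hwb' : polar Q w b ≠ 0 := by rw [hwb]; exact one_ne_zero
  have hu0 : u ≠ 0 := by
    rintro rfl
    exact hua' (polar_zero_left Q a)
  have hw0 : w ≠ 0 := by
    rintro rfl
    exact hwb' (polar_zero_left Q b)
  by_cases c1 : polar Q u b = 0
  swap
  · exact move_hyp hQ h4 hu hu0 hab hc hua' c1
  by_cases c2 : polar Q w a = 0
  swap
  · exact move_hyp hQ h4 hw hw0 hab hc c2 hwb'
  -- an intermediate vector
  obtain ⟨d, hd, hud, hwd⟩ : ∃ d, Q d = Q a ∧ polar Q u d ≠ 0 ∧ polar Q w d ≠ 0 := by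
    by_cases huw : polar Q u w = 0
    · obtain ⟨z, hz, hzu, hzw⟩ := exists_opp hQ hu hu0 hw hw0 huw
      refine ⟨z + (Q a * (polar Q z u)⁻¹) • u, ?_, ?_, ?_⟩
      · rw [Q_add, QuadraticMap.map_smul, hz, hu, polar_smul_right]
        simp only [smul_eq_mul]
        field_simp
        ring
      · rw [polar_add_right, polar_smul_right, polar_self_of_sing hu, smul_zero, add_zero, polar_comm]
        exact hzu
      · rw [polar_add_right, polar_smul_right, polar_comm Q w u, huw, smul_zero, add_zero, polar_comm]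
        exact hzw
    · refine ⟨u + (Q a * (polar Q u w)⁻¹) • w, ?_, ?_, ?_⟩
      · rw [Q_add, QuadraticMap.map_smul, hu, hw, polar_smul_right]
        simp only [smul_eq_mul]
        field_simp
        ring
      · rw [polar_add_right, polar_smul_right, polar_self_of_sing hu, zero_add, smul_eq_mul]
        exact mul_ne_zero (mul_ne_zero hc (inv_ne_zero huw)) huw
      · rw [polar_add_right, polar_smul_right, polar_self_of_sing hw, smul_zero, add_zero, polar_comm]
        exact huw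
  obtain ⟨k1, hk1, e1⟩ := move_hyp hQ h4 hu hu0 (b := d) hd.symm hc hua' hud
  obtain ⟨k2, hk2, e2⟩ := move_hyp hQ h4 hw hw0 (a := d) (b := b) (hd.trans hab) (by rw [hd]; exact hc) hwd hwb'
  refine ⟨k2 * k1, mul_mem hk2 hk1, ?_⟩
  show k2 (k1 a) = b
  rw [e1, e2]

theorem refl_congr {a b : V} (h : a = b) (ha : Q a ≠ 0) (hb : Q b ≠ 0) : refl Q a ha = refl Q b hb := by
  subst h; rfl

/-- products of reflections in vectors of the same norm -/
theorem refl_mul_mem [Finite F] [FiniteDimensional F V] (hQ : Nondeg Q) (h4 : 4 ≤ finrank F V) {a b : V}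
    (ha : Q a ≠ 0) (hb : Q b ≠ 0) (hab : Q a = Q b) : refl Q a ha * refl Q b hb ∈ E Q := by
  obtain ⟨k, hk, rfl⟩ := trans_E hQ h4 hab ha
  rw [← refl_conj (E_le_O hk) ha hb]
  have e : refl Q a ha * (k * refl Q a ha * k⁻¹) = (refl Q a ha * k * (refl Q a ha)⁻¹) * k⁻¹ := by
    rw [refl_inv]; group
  rw [e]
  exact mul_mem (conj_mem_E (refl_mem_O ha) hk) (inv_mem hk)

/-- **squares of isometries lie in `E Q`** -/
theorem sq_mem [Finite F] [FiniteDimensional F V] (hQ : Nondeg Q) (h4 : 4 ≤ finrank F V) {h : V ≃ₗ[F] V}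
    (hh : h ∈ O Q) : h * h ∈ E Q := by
  -- `O / E` is commutative
  have hcomm : ∀ g ∈ O Q, ∀ v, ∀ hv : Q v ≠ 0, g * refl Q v hv * g⁻¹ * (refl Q v hv)⁻¹ ∈ E Q := by
    intro g hg v hv
    have hv' : Q (g v) ≠ 0 := by rw [mem_O.1 hg]; exact hv
    rw [refl_conj hg hv hv', refl_inv]
    exact refl_mul_mem hQ h4 hv' hv (mem_O.1 hg v)
  have hN : ∀ g ∈ O Q, ∀ k ∈ E Q, g * k * g⁻¹ ∈ E Q := fun g hg k hk => conj_mem_E hg hk
  have key : ∀ h : V ≃ₗ[F] V, h ∈ closure (reflSet Q ∪ siegelSet Q) →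
      h ∈ O Q ∧ h * h ∈ E Q ∧ ∀ g ∈ O Q, g * h * g⁻¹ * h⁻¹ ∈ E Q := by
    intro h hh
    have hO : h ∈ O Q := by rw [O_eq_closure hQ]; exact hh
    refine ⟨hO, ?_⟩
    induction hh using closure_induction with
    | mem x hx =>
      rcases hx with ⟨v, hv, rfl⟩ | ⟨u, w, hu, hw, rfl⟩
      · exact ⟨by rw [refl_mul_self]; exact one_mem _, fun g hg => hcomm g hg v hv⟩
      · have h1 := siegel_mem_E hu hw
        exact ⟨mul_mem h1 h1, fun g hg => mul_mem (hN g hg _ h1) (inv_mem h1)⟩
    | one => exact ⟨by rw [mul_one]; exact one_mem _, fun g hg => by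
        have : g * 1 * g⁻¹ * (1 : V ≃ₗ[F] V)⁻¹ = 1 := by group
        rw [this]; exact one_mem _⟩
    | mul x y hx hy ihx ihy =>
      have hxO : x ∈ O Q := by rw [O_eq_closure hQ]; exact hx
      have hyO : y ∈ O Q := by rw [O_eq_closure hQ]; exact hy
      obtain ⟨x1, x2⟩ := ihx hxO
      obtain ⟨y1, y2⟩ := ihy hyO
      constructor
      · -- `x y x y = x (y x y⁻¹ x⁻¹) x ... `
        have h1 := y2 x hxO
        have h2 : (x * y * x⁻¹ * y⁻¹)⁻¹ ∈ E Q := inv_mem h1
        have e : x * y * (x * y) = (x * (x * y * x⁻¹ * y⁻¹)⁻¹ * x⁻¹) * (x * x) * (y * y) := by group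
        rw [e]
        exact mul_mem (mul_mem (hN x hxO _ h2) x1) y1
      · intro g hg
        have h1 := x2 g hg
        have h2 := y2 g hg
        have e : g * (x * y) * g⁻¹ * (x * y)⁻¹ = (g * x * g⁻¹ * x⁻¹) * (x * (g * y * g⁻¹ * y⁻¹) * x⁻¹) := by group
        rw [e]
        exact mul_mem h1 (hN x hxO _ h2)
    | inv x hx ih =>
      have hxO : x ∈ O Q := by rw [O_eq_closure hQ]; exact hx
      obtain ⟨x1, x2⟩ := ih hxO
      constructor
      · have e : x⁻¹ * x⁻¹ = (x * x)⁻¹ := by group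
        rw [e]
        exact inv_mem x1
      · intro g hg
        have h1 := x2 g hg
        have e : g * x⁻¹ * g⁻¹ * (x⁻¹)⁻¹ = x⁻¹ * (g * x * g⁻¹ * x⁻¹)⁻¹ * (x⁻¹)⁻¹ := by group
        rw [e]
        exact hN _ (inv_mem hxO) _ (inv_mem h1)
  exact (key h (by rw [← O_eq_closure hQ]; exact hh)).2.1

/-- **isometries of odd order lie in `E Q`** -/
theorem mem_E_of_odd [Finite F] [FiniteDimensional F V] (hQ : Nondeg Q) (h4 : 4 ≤ finrank F V) {h : V ≃ₗ[F] V}
    (hh : h ∈ O Q) {p : ℕ} (hp : Odd p) (hhp : h ^ p = 1) : h ∈ E Q := by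
  obtain ⟨k, rfl⟩ := hp
  have h1 : h = (h * h) ^ (k + 1) := by
    rw [← pow_two, ← pow_mul, show 2 * (k + 1) = 2 * k + 1 + 1 by ring, pow_succ, hhp, one_mul]
  rw [h1]
  exact pow_mem (sq_mem hQ h4 hh) _

end Cfsg.Agent.H621.Pi
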